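import Groth.Agent.Lib.SmoothSection.Scheme
import Mathlib.FieldTheory.IntermediateField.Adjoin.Basic
import Mathlib.AlgebraicGeometry.ResidueField

/-!
# Etale quasi-sections through geometric points of smooth morphisms in characteristic zero
-/

set_option autoImplicit false
set_option linter.style.haveILetI false
set_option backward.isDefEq.respectTransparency.types false

universe u

open CategoryTheory Limits AlgebraicGeometry

namespace Groth.Agent.SectThrough19

/-- An algebraic geometric point of a smooth scheme lies on an etale quasi-section. -/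
theorem exists_etale_section_through {X S : Scheme.{u}} (f : X ⟶ S) [Smooth f] (s : S) (Ω : Type u) [Field Ω]
    [CharZero Ω] [Algebra (S.residueField s) Ω] [Algebra.IsAlgebraic (S.residueField s) Ω]
    (t : Spec (CommRingCat.of Ω) ⟶ X)
    (ht : t ≫ f = Spec.map (CommRingCat.ofHom (algebraMap (S.residueField s) Ω)) ≫ S.fromSpecResidueField s) :
    ∃ (S' : Scheme.{u}) (g : S' ⟶ S) (h : S' ⟶ X) (w : Spec (CommRingCat.of Ω) ⟶ S'),
      Etale g ∧ h ≫ f = g ∧ w ≫ h = t := by
  let pt : Spec (CommRingCat.of Ω) := IsLocalRing.closedPoint Ω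
  obtain ⟨U, hU, V, hV, hxV, e, hsm⟩ := Smooth.exists_isStandardSmooth f (t pt)
  obtain ⟨n, γ, hγC, hγ⟩ := RingHom.IsStandardSmooth.exists_etale_mvPolynomial hsm
  let R := Γ(S, U)
  let q : Spec (CommRingCat.of (MvPolynomial (Fin n) R)) ⟶ Spec R := Spec.map (CommRingCat.ofHom MvPolynomial.C)
  let π : Spec Γ(X, V) ⟶ Spec (CommRingCat.of (MvPolynomial (Fin n) R)) := Spec.map (CommRingCat.ofHom γ)
  haveI : Etale π := (HasRingHomProperty.Spec_iff (P := @Etale)).2 hγ
  have hπq : π ≫ q = Spec.map (f.appLE U V e) := by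
    rw [← Spec.map_comp, ← CommRingCat.ofHom_comp, hγC]; rfl
  -- the point in the chart
  let tV := IsOpenImmersion.lift hV.fromSpec t (by
    rintro _ ⟨z, rfl⟩
    rw [hV.range_fromSpec, show z = pt from Subsingleton.elim (α := PrimeSpectrum Ω) _ _]
    exact hxV)
  have htV : tV ≫ hV.fromSpec = t := IsOpenImmersion.lift_fac _ _ _
  let g₀ : Γ(X, V) →+* Ω := (Spec.preimage tV).hom
  have hsU : s ∈ U := by
    have h1 : f (t pt) = s := by
      rw [← Scheme.Hom.comp_apply, ht, Scheme.Hom.comp_apply, Scheme.fromSpecResidueField_apply]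
    exact h1 ▸ e hxV
  -- evaluation at `s`
  let ρ : R ⟶ S.residueField s := S.presheaf.germ U s hsU ≫ S.residue s
  have hρ : Spec.map ρ ≫ hU.fromSpec = S.fromSpecResidueField s := by
    rw [Spec.map_comp, Category.assoc, Scheme.fromSpecResidueField, ← hU.fromSpecStalk_eq_fromSpecStalk hsU]
    rfl
  letI : Algebra R (S.residueField s) := ρ.hom.toAlgebra
  letI : Algebra R Ω := ((algebraMap (S.residueField s) Ω).comp ρ.hom).toAlgebra
  have hR : g₀.comp (f.appLE U V e).hom = algebraMap R Ω := by
    refine congrArg CommRingCat.Hom.hom (?_ : f.appLE U V e ≫ Spec.preimage tV = CommRingCat.ofHom (algebraMap R Ω))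
    refine Spec.map_injective ?_
    rw [Spec.map_comp, Spec.map_preimage, ← cancel_mono hU.fromSpec, Category.assoc,
      hU.SpecMap_appLE_fromSpec f hV e, reassoc_of% htV, ht, show CommRingCat.ofHom (algebraMap R Ω) =
        ρ ≫ CommRingCat.ofHom (algebraMap (S.residueField s) Ω) from rfl, Spec.map_comp, Category.assoc, hρ]
    rfl
  let p : Ideal R := RingHom.ker ρ.hom
  haveI : p.IsPrime := RingHom.ker_isPrime _
  let ev : p.ResidueField →+* S.residueField s :=
    (Ideal.ResidueField.liftₐ p (Algebra.ofId R (S.residueField s)) le_rfl (fun x hx => by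
      exact Ne.isUnit fun h0 => hx h0)).toRingHom
  have hev : ev.comp (algebraMap R p.ResidueField) = ρ.hom := by
    ext x
    exact (Ideal.ResidueField.liftₐ p (Algebra.ofId R (S.residueField s)) le_rfl
      (fun y hy => Ne.isUnit fun h0 => hy h0)).commutes x
  have hevs : Function.Surjective ev := by
    intro c
    obtain ⟨c', rfl⟩ := S.residue_surjective s c
    let := S.presheaf.algebra_section_stalk (⟨s, hsU⟩ : U)
    haveI := hU.isLocalization_stalk ⟨s, hsU⟩
    obtain ⟨⟨a, b⟩, hab⟩ := IsLocalization.surj (hU.primeIdealOf ⟨s, hsU⟩).asIdeal.primeCompl c'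
    have hb : ρ b ≠ 0 := fun h0 => by
      have hu : IsUnit (ρ b) := (IsLocalization.map_units (S.presheaf.stalk s) b).map (S.residue s).hom
      exact hu.ne_zero h0
    refine ⟨algebraMap R p.ResidueField a / algebraMap R p.ResidueField b, ?_⟩
    have hab' : S.residue s c' * ρ b = ρ a := by
      show S.residue s c' * S.residue s (algebraMap R (S.presheaf.stalk s) b) =
        S.residue s (algebraMap R (S.presheaf.stalk s) a)
      rw [← map_mul, hab]
    rw [map_div₀, ← RingHom.comp_apply, ← RingHom.comp_apply, hev, eq_comm, eq_div_iff hb]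
    exact hab'
  letI : Algebra p.ResidueField (S.residueField s) := ev.toAlgebra
  letI : Algebra p.ResidueField Ω := ((algebraMap (S.residueField s) Ω).comp ev).toAlgebra
  haveI : IsScalarTower p.ResidueField (S.residueField s) Ω := IsScalarTower.of_algebraMap_eq fun _ => rfl
  haveI : IsScalarTower R p.ResidueField Ω := IsScalarTower.of_algebraMap_eq fun x => by
    show algebraMap (S.residueField s) Ω (ρ x) = algebraMap (S.residueField s) Ω (ev _)
    rw [← RingHom.comp_apply ev, hev]
  haveI : CharZero p.ResidueField := (algebraMap p.ResidueField Ω).charZero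
  haveI : Algebra.IsAlgebraic p.ResidueField (S.residueField s) :=
    ⟨fun c => by obtain ⟨x, rfl⟩ := hevs c; exact isAlgebraic_algebraMap x⟩
  haveI : Algebra.IsAlgebraic p.ResidueField Ω := Algebra.IsAlgebraic.trans p.ResidueField (S.residueField s) Ω
  let a : Fin n → Ω := fun i => g₀ (γ (MvPolynomial.X i))
  let K : IntermediateField p.ResidueField Ω := IntermediateField.adjoin p.ResidueField (Set.range a)
  haveI : FiniteDimensional p.ResidueField K :=
    IntermediateField.finiteDimensional_adjoin fun x _ => (Algebra.IsAlgebraic.isAlgebraic x).isIntegral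
  letI : Algebra R K := ((algebraMap p.ResidueField K).comp (algebraMap R p.ResidueField)).toAlgebra
  haveI : IsScalarTower R p.ResidueField K := IsScalarTower.of_algebraMap_eq fun _ => rfl
  obtain ⟨R', _, _, _, φ, hφ⟩ := SmoothSection.exists_etale_lifts p K
    (fun i => (⟨a i, IntermediateField.subset_adjoin _ _ ⟨i, rfl⟩⟩ : K))
  choose b hb using hφ
  let θ : MvPolynomial (Fin n) R →ₐ[R] R' := MvPolynomial.aeval b
  let θ' : Spec (CommRingCat.of R') ⟶ Spec (CommRingCat.of (MvPolynomial (Fin n) R)) :=
    Spec.map (CommRingCat.ofHom θ.toRingHom)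
  have hθq : θ' ≫ q = Spec.map (CommRingCat.ofHom (algebraMap R R')) := by
    rw [← Spec.map_comp, ← CommRingCat.ofHom_comp]
    congr 2
    exact θ.comp_algebraMap
  haveI : Etale (Spec.map (CommRingCat.ofHom (algebraMap R R'))) :=
    (HasRingHomProperty.Spec_iff (P := @Etale)).2 (RingHom.etale_algebraMap.2 ‹_›)
  let φ' : R' →+* Ω := K.val.toRingHom.comp φ.toRingHom
  have hagree : φ'.comp θ.toRingHom = g₀.comp γ := by
    refine MvPolynomial.ringHom_ext (fun r => ?_) fun i => ?_
    · have h1 : θ (MvPolynomial.C r) = algebraMap R R' r := MvPolynomial.aeval_C b r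
      have h2 : γ (MvPolynomial.C r) = (f.appLE U V e).hom r := RingHom.congr_fun hγC r
      show (φ (θ (MvPolynomial.C r)) : Ω) = g₀ (γ (MvPolynomial.C r))
      rw [h1, h2, φ.commutes, ← RingHom.comp_apply g₀, hR, IsScalarTower.algebraMap_apply R p.ResidueField Ω]
      rfl
    · show (φ (θ (MvPolynomial.X i)) : Ω) = a i
      rw [show θ (MvPolynomial.X i) = b i from MvPolynomial.aeval_X b i, hb i]
  let w : Spec (CommRingCat.of Ω) ⟶ pullback π θ' :=
    pullback.lift tV (Spec.map (CommRingCat.ofHom φ')) (by
      rw [← Spec.map_preimage tV, ← Spec.map_comp, ← Spec.map_comp]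
      exact congrArg Spec.map (CommRingCat.hom_ext hagree.symm))
  refine ⟨pullback π θ', pullback.snd π θ' ≫ Spec.map (CommRingCat.ofHom (algebraMap R R')) ≫ hU.fromSpec,
    pullback.fst π θ' ≫ hV.fromSpec, w, inferInstance, ?_, ?_⟩
  · rw [Category.assoc, ← hU.SpecMap_appLE_fromSpec f hV e, ← hπq, ← hθq]
    simp only [Category.assoc]
    exact pullback.condition_assoc _
  · rw [pullback.lift_fst_assoc, htV]

end Groth.Agent.SectThrough19
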